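import Cfsg.Agent.Lib.UnitPrimeDim.Proper
import Cfsg.Agent.Lib.UnitPrimeDim.Reduce
import Cfsg.Agent.Lib.TwoPrimeDim.Centre

/-!
Geometric cases for maximal subgroups of `SU_n(q)` in arbitrary dimension: invariant subspaces, blocks of the
centre of a commutant, fields of odd degree, and properness of decomposition and tensor stabilisers.
-/

set_option autoImplicit false

namespace Cfsg.Agent.Lib.UnitMax

open Matrix Module Cfsg.Geo
open scoped MatrixGroups Matrix Kronecker
open Cfsg.Agent.Lib.UnitPrimeDim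
open Cfsg.Agent.Lib.Classical (conjHom conjHom_apply conjHom_conjHom conjHom_ne_id hermBilin hermBilin_apply
  hermBilin_nondegenerate exists_partner mem_GU_iff)
open Cfsg.Agent.Lib.TwoPrimeDim (centre mem_centre centre_comm img mem_img_idem map_img_conj Blocks)

variable {F : Type*} [Field F] [Fintype F] {n q : ℕ}

local notation "MM" => Matrix (Fin n) (Fin n) F
local notation "VV" => (Fin n → F)
local notation "ff" => Cfsg.hermForm n F q

/-- A maximal subgroup is the trace of any structure group containing it. -/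
theorem eq_inf {H M : Subgroup (GL (Fin n) F)} (hH : IsMaximalIn (omegaU n F q) H) (hle : H ≤ M)
    (hproper : ¬ omegaU n F q ≤ M) : H = M ⊓ omegaU n F q := by
  rcases hH.2 (M ⊓ omegaU n F q) (le_inf hle hH.1.le) inf_le_right with h | h
  · exact h.symm
  · exact absurd (inf_eq_right.mp h) hproper

/-! ### Properness -/

/-- A subspace invariant under all transvections is trivial. -/
theorem eq_bot_or_top_of_transvections (hF : Fintype.card F = q ^ 2) (hn : 2 ≤ n) {W : Submodule F VV}
    (hW : ∀ u, hermBilin hF n u u = 0 → u ∈ W ∨ ∀ w ∈ W, hermBilin hF n u w = 0) : W = ⊥ ∨ W = ⊤ := by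
  classical
  by_cases hI : ∃ u, u ≠ 0 ∧ hermBilin hF n u u = 0 ∧ u ∈ W
  · right
    obtain ⟨u, hu0, hu, huW⟩ := hI
    refine span_iso hF hn fun v hv => ?_
    by_contra hvW
    have h1 := (hW v hv).resolve_left hvW
    obtain ⟨y, hy, hyy⟩ := exists_partner hF hu0 hu
    have hsymm : ∀ a b, hermBilin hF n a b = 0 → hermBilin hF n b a = 0 := fun a b h => by
      rw [hermBilin_apply] at h ⊢
      exact herm_eq_zero_symm hF h
    have hyW : y ∈ W := by
      rcases hW y hyy with h | h
      · exact h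
      · exact absurd (hsymm _ _ (h u huW)) (by rw [hy]; exact one_ne_zero)
    have hvy := h1 y hyW
    have hv' : hermBilin hF n (y + v) (y + v) = 0 := by
      simp [map_add, hyy, hv, hvy, hsymm _ _ hvy]
    rcases hW (y + v) hv' with h | h
    · exact hvW (by simpa using W.sub_mem h hyW)
    · have h2 := h u huW
      rw [map_add, LinearMap.add_apply, h1 u huW, add_zero] at h2
      exact one_ne_zero (hy ▸ hsymm _ _ h2)
  · left
    push Not at hI
    rw [Submodule.eq_bot_iff]
    intro w hw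
    by_contra hw0
    obtain ⟨u, hu, huw⟩ : ∃ u, hermBilin hF n u u = 0 ∧ hermBilin hF n u w ≠ 0 := by
      by_contra h
      simp only [not_exists, not_and, not_not] at h
      have hker : LinearMap.ker (hermBilin hF n w) = ⊤ := span_iso hF hn fun u hu => by
        rw [LinearMap.mem_ker, hermBilin_apply]
        exact herm_eq_zero_symm hF (h u hu)
      exact hw0 ((hermBilin_nondegenerate hF n).1 w fun z => LinearMap.mem_ker.1 (hker ▸ Submodule.mem_top))
    have hu0 : u ≠ 0 := by rintro rfl; simp at huw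
    exact huw (((hW u hu).resolve_left (hI u hu0 hu)) w hw)

/-- `SU_n(q)` stabilises no decomposition. -/
theorem not_le_decompositionStabilizer (hF : Fintype.card F = q ^ 2) (hn : 5 ≤ n) {t m : ℕ}
    {D : Fin t → Submodule F VV} (hD : IsMDecomposition m D) :
    ¬ omegaU n F q ≤ decompositionStabilizer D := by
  classical
  rcases Nat.lt_or_ge m 2 with hm | hm
  · obtain rfl : m = 1 := le_antisymm (Nat.lt_succ_iff.mp hm) hD.pos
    have htn : t = n := by
      have hdec : DirectSum.IsInternal D :=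
        DirectSum.isInternal_submodule_of_iSupIndep_of_iSup_eq_top hD.indep hD.iSup_eq_top
      have h := (LinearEquiv.ofBijective (DirectSum.coeLinearMap D) hdec).finrank_eq
      simp [Module.finrank_directSum, hD.finrank_eq] at h
      exact h
    subst htn
    exact UnitPrimeDim.not_le_decompositionStabilizer hF hn D hD
  intro hle
  let i₀ : Fin t := ⟨0, by have := hD.two_le; omega⟩
  obtain ⟨c, hc, hc0⟩ := exists_skew_ne hF
  have hfix : ∀ u, hermBilin hF n u u = 0 → u ∈ D i₀ ∨ ∀ w ∈ D i₀, hermBilin hF n u w = 0 := by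
    intro u hu
    by_contra hcon
    push Not at hcon
    obtain ⟨hnot, w, hw, huw⟩ := hcon
    obtain ⟨T, hT⟩ := exists_tv hF u hu c hc
    obtain ⟨π, hπ⟩ := hle (toGU_mem T)
    have hTD : ∀ v ∈ D i₀, v + (c * hermBilin hF n u v) • u ∈ D (π i₀) := by
      intro v hv
      rw [← hπ i₀]
      exact ⟨v, hv, (Matrix.toLin'_apply _ _).trans ((toGU_mulVec T v).trans (hT v))⟩
    by_cases hij : π i₀ = i₀
    · have h2 := hTD w hw
      rw [hij] at h2
      have h3 := (D i₀).sub_mem h2 hw
      rw [add_sub_cancel_left] at h3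
      exact hnot ((Submodule.smul_mem_iff _ (mul_ne_zero hc0 huw)).mp h3)
    · let L : D i₀ →ₗ[F] F := (hermBilin hF n u).comp (D i₀).subtype
      have hinj : Function.Injective L := (injective_iff_map_eq_zero L).mpr fun v hv => by
        have h2 := hTD v v.2
        rw [show hermBilin hF n u (v : VV) = 0 from hv, mul_zero, zero_smul, add_zero] at h2
        exact Subtype.ext ((Submodule.disjoint_def.mp (hD.indep.pairwiseDisjoint (Ne.symm hij))) _ v.2 h2)
      have h4 := LinearMap.finrank_le_finrank_of_injective hinj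
      rw [hD.finrank_eq, Module.finrank_self] at h4
      omega
  rcases eq_bot_or_top_of_transvections hF (by omega) hfix with h | h
  · have h2 := hD.finrank_eq i₀
    rw [h, finrank_bot] at h2
    omega
  · have hj : (⟨1, hD.two_le⟩ : Fin t) ≠ i₀ := by simp [i₀]
    have h2 := hD.indep.pairwiseDisjoint hj.symm
    rw [Function.onFun, h, top_disjoint] at h2
    have h3 := hD.finrank_eq ⟨1, hD.two_le⟩
    rw [h2, finrank_bot] at h3
    omega

omit [Fintype F] in
theorem exists_kernel {d : ℕ} (hd : 2 ≤ d) (v : Fin d → F) : ∃ z : Fin d → F, z ≠ 0 ∧ ∑ i, v i * z i = 0 := by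
  let L : (Fin d → F) →ₗ[F] F := dotProductBilin F F v
  have hk : LinearMap.ker L ≠ ⊥ := LinearMap.ker_ne_bot_of_finrank_lt (by simp; omega)
  obtain ⟨z, hz, hz0⟩ := (Submodule.ne_bot_iff _).mp hk
  exact ⟨z, hz0, LinearMap.mem_ker.mp hz⟩

omit [Fintype F] in
/-- A transvection is no Kronecker product. -/
theorem kronecker_ne_transvection {d k : ℕ} (hd : 2 ≤ d) (hk : 2 ≤ k) (a : GL (Fin d) F) (b : GL (Fin k) F)
    {U V : Fin d × Fin k → F} (hU : U ≠ 0) (hV : V ≠ 0) (hVU : ∑ p, V p * U p = 0) :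
    (a : Matrix (Fin d) (Fin d) F) ⊗ₖ (b : Matrix (Fin k) (Fin k) F) ≠ 1 + Matrix.vecMulVec U V := by
  intro heq
  have hent : ∀ p r, (a : Matrix (Fin d) (Fin d) F) p.1 r.1 * (b : Matrix (Fin k) (Fin k) F) p.2 r.2 =
      (if p = r then 1 else 0) + U p * V r := by
    intro p r
    have h := congrFun (congrFun heq p) r
    rwa [Matrix.kronecker_apply, Matrix.add_apply, Matrix.one_apply, Matrix.vecMulVec_apply] at h
  have hoff : ∀ i i', i ≠ i' → (a : Matrix (Fin d) (Fin d) F) i i' = 0 := by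
    intro i i' hii
    by_contra h0
    obtain ⟨z, hz0, hz⟩ := exists_kernel hk fun j' => V (i', j')
    refine hz0 (Matrix.mulVec_injective_iff_isUnit.mpr b.isUnit ?_)
    rw [Matrix.mulVec_zero]
    funext j
    refine mul_left_cancel₀ h0 ?_
    rw [Pi.zero_apply, mul_zero, Matrix.mulVec, dotProduct, Finset.mul_sum]
    calc ∑ j', (a : Matrix (Fin d) (Fin d) F) i i' * ((b : Matrix (Fin k) (Fin k) F) j j' * z j')
        = ∑ j', U (i, j) * (V (i', j') * z j') := Finset.sum_congr rfl fun j' _ => by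
          rw [← mul_assoc, hent (i, j) (i', j'), if_neg (by simp [hii]), zero_add, mul_assoc]
      _ = 0 := by rw [← Finset.mul_sum]; exact mul_eq_zero_of_right _ hz
  have hoff' : ∀ j j', j ≠ j' → (b : Matrix (Fin k) (Fin k) F) j j' = 0 := by
    intro j j' hjj
    by_contra h0
    obtain ⟨z, hz0, hz⟩ := exists_kernel hd fun i' => V (i', j')
    refine hz0 (Matrix.mulVec_injective_iff_isUnit.mpr a.isUnit ?_)
    rw [Matrix.mulVec_zero]
    funext i
    refine mul_right_cancel₀ h0 ?_
    rw [Pi.zero_apply, zero_mul, Matrix.mulVec, dotProduct, Finset.sum_mul]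
    calc ∑ i', (a : Matrix (Fin d) (Fin d) F) i i' * z i' * (b : Matrix (Fin k) (Fin k) F) j j'
        = ∑ i', U (i, j) * (V (i', j') * z i') := Finset.sum_congr rfl fun i' _ => by
          rw [mul_right_comm, hent (i, j) (i', j'), if_neg (by simp [hjj]), zero_add, mul_assoc]
      _ = 0 := by rw [← Finset.mul_sum]; exact mul_eq_zero_of_right _ hz
  have hdiag : ∀ p r, p ≠ r → U p * V r = 0 := by
    intro p r hpr
    have h1 := hent p r
    rw [if_neg hpr, zero_add] at h1
    rw [← h1]
    by_cases h2 : p.1 = r.1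
    · rw [hoff' _ _ fun h3 => hpr (Prod.ext h2 h3), mul_zero]
    · rw [hoff _ _ h2, zero_mul]
  obtain ⟨p, hp⟩ := Function.ne_iff.mp hU
  obtain ⟨r, hr⟩ := Function.ne_iff.mp hV
  have hall : ∀ s, s ≠ p → V s = 0 := fun s hs => (mul_eq_zero.mp (hdiag p s hs.symm)).resolve_left hp
  obtain rfl : r = p := by
    by_contra h
    exact hr (hall r h)
  rw [Finset.sum_eq_single r (fun s _ hs => by rw [hall s hs, zero_mul]) (by simp)] at hVU
  exact (mul_ne_zero hr hp) hVU

/-- `SU_n(q)` stabilises no tensor decomposition. -/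
theorem not_le_tensorProductSubgroup (hF : Fintype.card F = q ^ 2) (hn : 2 ≤ n) {d k : ℕ} (hd : 2 ≤ d)
    (hk : 2 ≤ k) (e : Fin n ≃ Fin d × Fin k) (P : GL (Fin n) F) :
    ¬ omegaU n F q ≤ tensorProductSubgroup d k e P := by
  classical
  intro hle
  obtain ⟨u, hu0, hu⟩ := Classical.exists_isotropic hF hn
  obtain ⟨c, hc, hc0⟩ := exists_skew_ne hF
  obtain ⟨T, hT⟩ := exists_tv hF u hu c hc
  obtain ⟨g, hg, hgeq⟩ := hle (toGU_mem T)
  obtain ⟨h, ⟨a, b, hab⟩, rfl⟩ := hg
  let ψ : VV := fun i => c * hermBilin hF n u (Pi.single i 1)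
  have hψ : ∀ x, ψ ⬝ᵥ x = c * hermBilin hF n u x := by
    intro x
    conv_rhs => rw [pi_eq_sum_univ' x, map_sum, Finset.mul_sum]
    refine Finset.sum_congr rfl fun i _ => ?_
    rw [map_smul, smul_eq_mul]
    ring
  set Pi' : MM := ((P⁻¹ : GL (Fin n) F) : MM) with hPi
  let U : Fin d × Fin k → F := fun p => (Pi' *ᵥ u) (e.symm p)
  let V : Fin d × Fin k → F := fun p => (ψ ᵥ* (P : MM)) (e.symm p)
  have hU : U ≠ 0 := fun h0 => hu0 (by
    have h1 : Pi' *ᵥ u = 0 := funext fun i => by simpa [U] using congrFun h0 (e i)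
    have h2 := congrArg (fun v => (P : MM) *ᵥ v) h1
    simpa [hPi, Matrix.mulVec_mulVec] using h2)
  have hV : V ≠ 0 := fun h0 => by
    have h1 : ψ ᵥ* (P : MM) = 0 := funext fun i => by simpa [V] using congrFun h0 (e i)
    obtain ⟨y, hy, -⟩ := exists_partner hF hu0 hu
    have h2 : (ψ ᵥ* (P : MM)) ⬝ᵥ (Pi' *ᵥ y) = 0 := by rw [h1, zero_dotProduct]
    rw [← Matrix.dotProduct_mulVec, Matrix.mulVec_mulVec, hPi, ← Units.val_mul, mul_inv_cancel,
      Units.val_one, Matrix.one_mulVec, hψ, hy, mul_one] at h2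
    exact hc0 h2
  have hVU : ∑ p, V p * U p = 0 := by
    rw [Equiv.sum_comp e.symm (fun i => (ψ ᵥ* (P : MM)) i * (Pi' *ᵥ u) i)]
    show (ψ ᵥ* (P : MM)) ⬝ᵥ (Pi' *ᵥ u) = 0
    rw [← Matrix.dotProduct_mulVec, Matrix.mulVec_mulVec, hPi, ← Units.val_mul, mul_inv_cancel, Units.val_one,
      Matrix.one_mulVec, hψ, hu, mul_zero]
  have hmat : Pi' * ((toGU n F q T : GL (Fin n) F) : MM) * (P : MM) =
      1 + Matrix.vecMulVec (Pi' *ᵥ u) (ψ ᵥ* (P : MM)) := by
    refine Matrix.ext_iff_mulVec.2 fun x => ?_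
    rw [← Matrix.mulVec_mulVec, ← Matrix.mulVec_mulVec, toGU_mulVec, hT, Matrix.mulVec_add, Matrix.mulVec_smul,
      Matrix.mulVec_mulVec, hPi, ← Units.val_mul, inv_mul_cancel, Units.val_one, Matrix.one_mulVec,
      Matrix.add_mulVec, Matrix.one_mulVec, Matrix.vecMulVec_mulVec, op_smul_eq_smul, ← Matrix.dotProduct_mulVec,
      hψ]
  refine kronecker_ne_transvection hd hk a b hU hV hVU (Matrix.ext fun p r => ?_)
  rw [← hab]
  have h1 : (h : Matrix (Fin d × Fin k) (Fin d × Fin k) F) p r =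
      (Pi' * ((toGU n F q T : GL (Fin n) F) : MM) * (P : MM)) (e.symm p) (e.symm r) := by
    rw [← hgeq]
    simp only [MulEquiv.coe_toMonoidHom, MulAut.conj_apply, Units.val_mul]
    simp only [hPi, ← mul_assoc, ← Units.val_mul, inv_mul_cancel, one_mul]
    simp only [mul_assoc, ← Units.val_mul, inv_mul_cancel, mul_one]
    simp [glReindex]
  rw [h1, hmat]
  simp only [Matrix.add_apply, Matrix.one_apply, Matrix.vecMulVec_apply, EmbeddingLike.apply_eq_iff_eq, U, V]

/-! ### Orthogonal idempotents -/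

/-- The adjoint of a matrix for `hermForm`. -/
noncomputable def adj (hF : Fintype.card F = q ^ 2) (M : MM) : MM := (M.map (conjHom hF))ᵀ

theorem adj_adj (hF : Fintype.card F = q ^ 2) (M : MM) : adj hF (adj hF M) = M :=
  Matrix.ext fun i j => conjHom_conjHom hF _

theorem adj_mul (hF : Fintype.card F = q ^ 2) (M M' : MM) : adj hF (M * M') = adj hF M' * adj hF M := by
  simp only [adj, Matrix.map_mul, Matrix.transpose_mul]

theorem adj_spec (hF : Fintype.card F = q ^ 2) (M : MM) (u v : VV) :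
    ff (M *ᵥ u) v = ff u (adj hF M *ᵥ v) := by
  show ∑ i, (M *ᵥ u) i * v i ^ q = ∑ i, u i * ((M.map (conjHom hF))ᵀ *ᵥ v) i ^ q
  simp only [Matrix.mulVec, dotProduct, ← conjHom_apply hF, map_sum, map_mul,
    Matrix.transpose_apply, Matrix.map_apply, conjHom_conjHom, Finset.sum_mul, Finset.mul_sum]
  rw [Finset.sum_comm]
  exact Finset.sum_congr rfl fun i _ => Finset.sum_congr rfl fun j _ => by ring

theorem adj_GU (hF : Fintype.card F = q ^ 2) {g : GL (Fin n) F} (hg : g ∈ Cfsg.GU n F q) :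
    adj hF (g : MM) = ((g⁻¹ : GL (Fin n) F) : MM) := by
  have h1 : (g : MM)ᵀ * (g : MM).map (conjHom hF) = 1 := (mem_GU_iff hF g).1 hg
  have h2 := congrArg Matrix.transpose h1
  rw [Matrix.transpose_mul, Matrix.transpose_transpose, Matrix.transpose_one] at h2
  calc adj hF (g : MM) = adj hF (g : MM) * ((g : MM) * ((g⁻¹ : GL (Fin n) F) : MM)) := by
        rw [← Units.val_mul, mul_inv_cancel, Units.val_one, mul_one]
    _ = ((g⁻¹ : GL (Fin n) F) : MM) := by rw [← mul_assoc, adj, h2, one_mul]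

theorem adj_mem_centre (hF : Fintype.card F = q ^ 2) {N : Subgroup (GL (Fin n) F)} (hN : N ≤ Cfsg.GU n F q)
    {k : MM} (hk : k ∈ centre N) : adj hF k ∈ centre N := by
  rw [mem_centre] at hk ⊢
  have hflip : ∀ X : MM, (∀ g ∈ N, (g : MM) * X = X * (g : MM)) →
      ∀ g ∈ N, (g : MM) * adj hF X = adj hF X * (g : MM) := by
    intro X hX g hg
    have h := congrArg (adj hF) (hX g⁻¹ (N.inv_mem hg))
    rw [adj_mul, adj_mul, adj_GU hF (hN (N.inv_mem hg)), inv_inv] at h
    exact h.symm
  refine ⟨hflip k hk.1, fun X hX => ?_⟩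
  have h := congrArg (adj hF) (hk.2 _ (hflip X hX))
  rw [adj_mul, adj_mul, adj_adj] at h
  exact h.symm

/-- Self-adjoint orthogonal idempotents give an orthogonal decomposition. -/
theorem orth_decomp (hF : Fintype.card F = q ^ 2) {s w : ℕ} (e : Fin s → MM) (idem : ∀ i, e i * e i = e i)
    (orth : ∀ i j, i ≠ j → e i * e j = 0) (sum : ∑ i, e i = 1) (self : ∀ i, adj hF (e i) = e i)
    (dim : ∀ i, finrank F (img (e i)) = w) (hs : 2 ≤ s) (hw : 0 < w) :
    IsNondegenerateMDecomposition ff w fun i => img (e i) := by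
  classical
  have hcompl : ∀ i, ∀ v ∈ ⨆ (j) (_ : j ≠ i), img (e j), e i *ᵥ v = 0 := by
    intro i v hv
    have : (⨆ (j) (_ : j ≠ i), img (e j)) ≤ LinearMap.ker (Matrix.toLin' (e i)) := by
      refine iSup₂_le fun j hj => ?_
      rintro _ ⟨u, rfl⟩
      rw [LinearMap.mem_ker, Matrix.toLin'_apply, Matrix.toLin'_apply, Matrix.mulVec_mulVec,
        orth i j hj.symm, Matrix.zero_mulVec]
    simpa using this hv
  refine ⟨⟨hs, hw, dim, fun i => ?_, ?_⟩, fun i v hv hv0 => ?_, fun i j hij u hu v hv => ?_⟩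
  · rw [disjoint_iff, Submodule.eq_bot_iff]
    rintro v ⟨hv1, hv2⟩
    rw [← (mem_img_idem (idem i)).mp hv1]
    exact hcompl i v hv2
  · refine eq_top_iff.mpr fun v _ => ?_
    have : v = ∑ i, e i *ᵥ v := by rw [← Matrix.sum_mulVec, sum, Matrix.one_mulVec]
    rw [this]
    exact sum_mem fun i _ => Submodule.mem_iSup_of_mem i ⟨v, rfl⟩
  · have hfix := (mem_img_idem (idem i)).mp hv
    obtain ⟨x, hx⟩ : ∃ x, ff x v ≠ 0 := by
      by_contra hcon
      push Not at hcon
      exact hv0 (herm_nondeg hF hcon)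
    have h2 : ff (e i *ᵥ x) v = ff x v := by rw [adj_spec hF, self, hfix]
    exact ⟨⟨e i *ᵥ x, ⟨x, rfl⟩, h2.symm ▸ hx⟩, e i *ᵥ x, ⟨x, rfl⟩,
      fun h => hx (h2 ▸ herm_eq_zero_symm hF h)⟩
  · rw [← (mem_img_idem (idem i)).mp hu, adj_spec hF, self, ← (mem_img_idem (idem j)).mp hv,
      Matrix.mulVec_mulVec, orth i j hij, Matrix.zero_mulVec]
    simp [Cfsg.hermForm, Classical.zero_pow_q hF]

/-- Blocks of a unitary group give an orthogonal decomposition, or two totally singular halves. -/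
theorem blocks_cases (hF : Fintype.card F = q ^ 2) {H N : Subgroup (GL (Fin n) F)} (hHU : H ≤ Cfsg.GU n F q)
    (hNH : N ≤ H) {t w : ℕ} {e : Fin t → MM} (hB : Blocks H N w e) :
    (∃ (s m : ℕ) (D : Fin s → Submodule F VV), IsNondegenerateMDecomposition ff m D ∧ s * m = n ∧
      H ≤ decompositionStabilizer D) ∨
    (∃ (m : ℕ) (D : Fin 2 → Submodule F VV), 2 * m = n ∧ IsMDecomposition m D ∧
      (∀ i, IsTotallySingularFor ff (D i)) ∧ H ≤ decompositionStabilizer D) := by
  classical
  have hcard : t * w = n := by simpa using hB.card_eq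
  have hinjE : Function.Injective e := fun i j h => by
    by_contra hne
    have h1 := hB.orth i j hne
    rw [← h, hB.idem] at h1
    exact hB.ne_zero i h1
  have hpart : ∀ i, ∃ j, adj hF (e i) = e j := by
    intro i
    refine hB.exists_eq (adj_mem_centre hF (hNH.trans hHU) (hB.mem i)) ?_ ?_ fun j => ?_
    · rw [← adj_mul, hB.idem]
    · intro h
      apply hB.ne_zero i
      rw [← adj_adj hF (e i), h]
      ext a b
      simp [adj]
    · have hm := adj_mem_centre hF (hNH.trans hHU) (hB.mem j)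
      rcases hB.prim i _ hm (by rw [← adj_mul, hB.idem]) with h | h
      · left
        rw [← adj_adj hF (e j), ← adj_mul, ← centre_comm (hB.mem i) hm, h]
        ext a b
        simp [adj]
      · right
        rw [← adj_adj hF (e j), ← adj_mul, ← centre_comm (hB.mem i) hm, h]
  choose π hπ using hpart
  have hππ : ∀ i, π (π i) = i := fun i => hinjE (by rw [← hπ, ← hπ, adj_adj])
  have hsing : ∀ i j, π i ≠ j → ∀ u ∈ img (e i), ∀ v ∈ img (e j), ff u v = 0 := by
    intro i j hij u hu v hv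
    rw [← (mem_img_idem (hB.idem i)).mp hu, adj_spec hF, hπ, ← (mem_img_idem (hB.idem j)).mp hv,
      Matrix.mulVec_mulVec, hB.orth _ _ hij, Matrix.zero_mulVec]
    simp [Cfsg.hermForm, Classical.zero_pow_q hF]
  have hequiv : ∀ g ∈ H, ∀ i j, (g : MM) * e i * ((g⁻¹ : GL (Fin n) F) : MM) = e j →
      (g : MM) * e (π i) * ((g⁻¹ : GL (Fin n) F) : MM) = e (π j) := by
    intro g hg i j h
    have h1 := congrArg (adj hF) h
    rw [adj_mul, adj_mul, hπ, hπ, adj_GU hF (hHU hg), adj_GU hF (hHU (H.inv_mem hg)), inv_inv, ← mul_assoc] at h1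
    exact h1
  by_cases hfix : ∃ i, π i = i
  · obtain ⟨i, hi⟩ := hfix
    have hall : ∀ j, π j = j := fun j => by
      obtain ⟨g, hg, hgij⟩ := hB.trans i j
      have h := hequiv g hg i j hgij
      rw [hi, hgij] at h
      exact hinjE h.symm
    exact Or.inl ⟨t, w, fun i => img (e i), orth_decomp hF e hB.idem hB.orth hB.sum_eq
      (fun j => by rw [hπ, hall]) hB.decomp.finrank_eq hB.decomp.two_le hB.decomp.pos, hcard, hB.le_stab⟩
  push Not at hfix
  rcases Nat.lt_or_ge t 3 with ht | ht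
  · obtain rfl : t = 2 := le_antisymm (Nat.lt_succ_iff.mp ht) hB.decomp.two_le
    exact Or.inr ⟨w, fun i => img (e i), hcard, hB.decomp,
      fun i u hu v hv => hsing i i (hfix i) u hu v hv, hB.le_stab⟩
  left
  let S : Finset (Fin t) := Finset.univ.filter fun i => i < π i
  have hS : ∀ i, i ∈ S ↔ i < π i := fun i => by simp [S]
  let P : Fin t → MM := fun i => e i + e (π i)
  have hPπ : ∀ i, P (π i) = P i := fun i => by simp only [P, hππ, add_comm]
  have hrep : ∀ i, i ∈ S ∨ π i ∈ S := fun i => by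
    rcases lt_or_gt_of_ne (hfix i).symm with h | h
    · exact Or.inl ((hS i).mpr h)
    · exact Or.inr ((hS _).mpr (by rw [hππ]; exact h))
  let a : Fin S.card → Fin t := fun j => (S.equivFin.symm j : Fin t)
  have haS : ∀ j, a j < π (a j) := fun j => (hS _).mp (S.equivFin.symm j).2
  have hainj : Function.Injective a := Subtype.val_injective.comp S.equivFin.symm.injective
  have hasurj : ∀ i ∈ S, ∃ j, a j = i := fun i hi => ⟨S.equivFin ⟨i, hi⟩, by simp [a]⟩
  have hsumS : ∑ i ∈ S, P i = 1 := by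
    have hdis : Disjoint S (S.image π) := by
      rw [Finset.disjoint_left]
      intro i hi hi'
      obtain ⟨j, hj, rfl⟩ := Finset.mem_image.mp hi'
      have h1 := (hS _).mp hi
      rw [hππ] at h1
      exact lt_asymm h1 ((hS j).mp hj)
    have huniv : S ∪ S.image π = Finset.univ := by
      ext i
      simp only [Finset.mem_union, Finset.mem_image, Finset.mem_univ, iff_true]
      rcases hrep i with h | h
      · exact Or.inl h
      · exact Or.inr ⟨π i, h, hππ i⟩
    rw [← hB.sum_eq, ← huniv, Finset.sum_union hdis,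
      Finset.sum_image fun x _ y _ h => by rw [← hππ x, h, hππ], ← Finset.sum_add_distrib]
  have hsum : ∑ j, P (a j) = 1 := by
    rw [← hsumS, ← Finset.sum_coe_sort S]
    exact Fintype.sum_equiv S.equivFin.symm _ _ fun j => rfl
  have hne : ∀ i j, i ≠ j → a i ≠ a j ∧ a i ≠ π (a j) ∧ π (a i) ≠ a j ∧ π (a i) ≠ π (a j) := by
    intro i j hij
    refine ⟨hainj.ne hij, fun h => ?_, fun h => ?_, fun h => hij (hainj (by rw [← hππ (a i), h, hππ]))⟩
    · have h1 := haS i
      rw [h, hππ] at h1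
      exact lt_asymm h1 (haS j)
    · have h1 := haS j
      rw [← h, hππ] at h1
      exact lt_asymm h1 (haS i)
  have hPidem : ∀ i, P i * P i = P i := fun i => by
    simp only [P, mul_add, add_mul, hB.idem, hB.orth _ _ (hfix i), hB.orth _ _ (hfix i).symm, zero_add, add_zero]
  have hPorth : ∀ i j, i ≠ j → P (a i) * P (a j) = 0 := fun i j hij => by
    obtain ⟨h1, h2, h3, h4⟩ := hne i j hij
    simp only [P, mul_add, add_mul, hB.orth _ _ h1, hB.orth _ _ h2, hB.orth _ _ h3, hB.orth _ _ h4, add_zero]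
  have hPdim : ∀ i, finrank F (img (P i)) = 2 * w := fun i => by
    have heq : img (P i) = img (e i) ⊔ img (e (π i)) := by
      refine le_antisymm ?_ (sup_le ?_ ?_)
      · rintro _ ⟨u, rfl⟩
        rw [Matrix.toLin'_apply, Matrix.add_mulVec]
        exact Submodule.add_mem_sup ⟨u, rfl⟩ ⟨u, rfl⟩
      · rintro _ ⟨u, rfl⟩
        refine ⟨e i *ᵥ u, ?_⟩
        simp only [P, Matrix.toLin'_apply, Matrix.mulVec_mulVec, add_mul, hB.idem, hB.orth _ _ (hfix i), add_zero]
      · rintro _ ⟨u, rfl⟩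
        refine ⟨e (π i) *ᵥ u, ?_⟩
        simp only [P, Matrix.toLin'_apply, Matrix.mulVec_mulVec, add_mul, hB.idem, hB.orth _ _ (hfix i).symm,
          zero_add]
    have h1 := Submodule.finrank_sup_add_finrank_inf_eq (img (e i)) (img (e (π i)))
    rw [disjoint_iff.mp (hB.decomp.indep.pairwiseDisjoint (hfix i).symm), finrank_bot, add_zero,
      hB.decomp.finrank_eq, hB.decomp.finrank_eq, ← heq] at h1
    omega
  have hScard : 2 * S.card = t := by
    have h1 : S.card + (S.image π).card = t := by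
      rw [← Finset.card_union_of_disjoint, show S ∪ S.image π = Finset.univ from ?_, Finset.card_univ,
        Fintype.card_fin]
      · ext i
        simp only [Finset.mem_union, Finset.mem_image, Finset.mem_univ, iff_true]
        rcases hrep i with h | h
        · exact Or.inl h
        · exact Or.inr ⟨π i, h, hππ i⟩
      · rw [Finset.disjoint_left]
        intro i hi hi'
        obtain ⟨j, hj, rfl⟩ := Finset.mem_image.mp hi'
        have h1 := (hS _).mp hi
        rw [hππ] at h1
        exact lt_asymm h1 ((hS j).mp hj)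
    rw [Finset.card_image_of_injective S fun x y h => by rw [← hππ x, h, hππ]] at h1
    omega
  have hself : ∀ j, adj hF (P (a j)) = P (a j) := fun j => by
    have hadd : ∀ M M' : MM, adj hF (M + M') = adj hF M + adj hF M' := fun M M' => by
      ext x y; simp [adj]
    simp only [P, hadd, hπ, hππ, add_comm]
  refine ⟨S.card, 2 * w, fun j => img (P (a j)), orth_decomp hF _ (fun j => hPidem _) hPorth hsum hself
    (fun j => hPdim _) (by omega) (by have := hB.decomp.pos; omega), ?_, fun g hg => ?_⟩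
  · rw [← hcard, show S.card * (2 * w) = 2 * S.card * w by ring, hScard]
  obtain ⟨σ, hσ⟩ := hB.perm g hg
  have hσπ : ∀ i, σ (π i) = π (σ i) := fun i =>
    hinjE ((hσ (π i)).symm.trans (hequiv g hg i (σ i) (hσ i)))
  have hgP : ∀ i, (g : MM) * P i * ((g⁻¹ : GL (Fin n) F) : MM) = P (σ i) := fun i => by
    simp only [P, mul_add, add_mul, hσ, hσπ]
  have hnext : ∀ j, ∃ j', P (σ (a j)) = P (a j') := fun j => by
    rcases hrep (σ (a j)) with h | h
    · obtain ⟨j', hj'⟩ := hasurj _ h
      exact ⟨j', by rw [hj']⟩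
    · obtain ⟨j', hj'⟩ := hasurj _ h
      exact ⟨j', by rw [hj', hPπ]⟩
  choose τ hτ using hnext
  have hτinj : Function.Injective τ := fun i j hij => by
    by_contra hne'
    have h1 : (g : MM) * P (a i) * ((g⁻¹ : GL (Fin n) F) : MM) = (g : MM) * P (a j) * ((g⁻¹ : GL (Fin n) F) : MM) := by
      rw [hgP, hgP, hτ, hτ, hij]
    have h2 := congrArg (fun M => ((g⁻¹ : GL (Fin n) F) : MM) * M * (g : MM)) h1
    simp only [mul_assoc, Units.inv_mul_cancel_left, Units.inv_mul, mul_one] at h2
    have h3 := hPorth i j hne'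
    rw [h2, hPidem] at h3
    have h4 := hPdim (a j)
    rw [h3] at h4
    rw [show img (0 : MM) = ⊥ by simp [TwoPrimeDim.img], finrank_bot] at h4
    have := hB.decomp.pos
    omega
  exact ⟨Equiv.ofBijective τ (Finite.injective_iff_bijective.mp hτinj),
    fun j => by rw [map_img_conj, hgP, hτ, Equiv.ofBijective_apply]⟩

/-! ### The reducible case -/

/-- The reducible case in any dimension. -/
theorem reducible (hF : Fintype.card F = q ^ 2) (hn : 2 ≤ n) {H : Subgroup (GL (Fin n) F)}
    (hH : IsMaximalIn (omegaU n F q) H) {W : Submodule F VV} (hW0 : W ≠ ⊥) (hW1 : W ≠ ⊤)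
    (hW : ∀ g ∈ H, ∀ v ∈ W, (g : MM) *ᵥ v ∈ W) :
    (∃ W : Submodule F VV, W ≠ ⊥ ∧ IsTotallySingularFor ff W ∧ H = subspaceStabilizer W ⊓ omegaU n F q) ∨
    (∃ W : Submodule F VV, W ≠ ⊥ ∧ IsNondegenerateOn ff W ∧ 2 * finrank F W < n ∧
      H = subspaceStabilizer W ⊓ omegaU n F q) ∨
    (∃ (m : ℕ) (D : Fin 2 → Submodule F VV), 2 * m = n ∧ IsNondegenerateMDecomposition ff m D ∧
      H ≤ decompositionStabilizer D) := by
  classical
  have hHU : H ≤ Cfsg.GU n F q := hH.1.le.trans inf_le_left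
  have eq_of : ∀ U : Submodule F VV, U ≠ ⊥ → U ≠ ⊤ → (∀ g ∈ H, ∀ v ∈ U, (g : MM) *ᵥ v ∈ U) →
      H = subspaceStabilizer U ⊓ omegaU n F q := fun U hU0 hU1 hU =>
    eq_inf hH (le_stab hU) (UnitPrimeDim.not_le_subspaceStabilizer hF hn U hU0 hU1)
  set W' := hperp n F q W with hW'def
  by_cases hU : W ⊓ W' = ⊥
  swap
  · exact Or.inl ⟨W ⊓ W', hU, fun u hu v hv => mem_hperp.1 hu.2 v hv.1,
      eq_of _ hU (fun h => hW1 (eq_top_iff.2 (h ▸ inf_le_left)))
        fun g hg v hv => ⟨hW g hg v hv.1, hperp_invariant hHU hW g hg v hv.2⟩⟩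
  have hperp' : ∀ x ∈ W, ∀ y ∈ W', ff x y = 0 :=
    fun x hx y hy => herm_eq_zero_symm hF (mem_hperp.1 hy x hx)
  have hge : n ≤ finrank F W + finrank F W' := finrank_hperp_ge hF W
  have hsum := Submodule.finrank_sup_add_finrank_inf_eq W W'
  rw [hU, finrank_bot, add_zero] at hsum
  have hle := Submodule.finrank_le (W ⊔ W')
  rw [Module.finrank_fin_fun] at hle
  have htop : W ⊔ W' = ⊤ := Submodule.eq_top_of_finrank_eq (by rw [Module.finrank_fin_fun]; omega)
  have hdec : ∀ x, ∃ a ∈ W, ∃ b ∈ W', a + b = x := fun x =>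
    Submodule.mem_sup.1 (htop ▸ Submodule.mem_top : x ∈ W ⊔ W')
  have hnd : ∀ U U' : Submodule F VV, (∀ x ∈ U', ∀ w ∈ U, ff x w = 0) →
      (∀ x, ∃ a ∈ U, ∃ b ∈ U', a + b = x) → IsNondegenerateOn ff U := by
    intro U U' hUU hd w hw hw0
    have : ∃ x ∈ U, ff x w ≠ 0 := by
      by_contra hcon
      push Not at hcon
      refine hw0 (herm_nondeg hF fun x => ?_)
      obtain ⟨a, ha, b, hb, rfl⟩ := hd x
      rw [herm_add_left, hcon a ha, hUU b hb w hw, add_zero]
    obtain ⟨x, hx, hx0⟩ := this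
    exact ⟨⟨x, hx, hx0⟩, ⟨x, hx, fun h => hx0 (herm_eq_zero_symm hF h)⟩⟩
  have hndW : IsNondegenerateOn ff W := hnd W W' (fun x hx w hw => mem_hperp.1 hx w hw) hdec
  have hndW' : IsNondegenerateOn ff W' := hnd W' W hperp' fun x => by
    obtain ⟨a, ha, b, hb, h⟩ := hdec x
    exact ⟨b, hb, a, ha, by rw [add_comm]; exact h⟩
  have hW'1 : W' ≠ ⊤ := fun h => hW0 (by rwa [h, inf_top_eq] at hU)
  have hW'0 : W' ≠ ⊥ := fun h => hW1 (by rwa [h, sup_bot_eq] at htop)
  have hWd : finrank F W + finrank F W' = n := by omega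
  rcases lt_trichotomy (2 * finrank F W) n with hlt | heq | hgt
  · exact Or.inr (Or.inl ⟨W, hW0, hndW, hlt, eq_of W hW0 hW1 hW⟩)
  swap
  · exact Or.inr (Or.inl ⟨W', hW'0, hndW', by omega, eq_of _ hW'0 hW'1 (hperp_invariant hHU hW)⟩)
  refine Or.inr (Or.inr ⟨finrank F W, ![W, W'], heq, ⟨⟨le_rfl, ?_, ?_, ?_, ?_⟩, ?_, ?_⟩, fun g hg => ?_⟩)
  · omega
  · intro i; fin_cases i
    · rfl
    · show finrank F W' = _; omega
  · rw [iSupIndep_pair (i := (0 : Fin 2)) (j := 1) (by decide) (by intro x; fin_cases x <;> simp)]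
    exact disjoint_iff.mpr hU
  · exact top_le_iff.mp (htop ▸ sup_le (le_iSup ![W, W'] 0) (le_iSup ![W, W'] 1))
  · intro i; fin_cases i <;> assumption
  · intro i j hij
    fin_cases i <;> fin_cases j <;> first
      | exact absurd rfl hij
      | exact hperp'
      | exact fun x hx y hy => mem_hperp.1 hx y hy
  · refine ⟨1, fun i => ?_⟩
    have hmap : ∀ U : Submodule F VV, (∀ g ∈ H, ∀ v ∈ U, (g : MM) *ᵥ v ∈ U) →
        U.map (Matrix.toLin' (g : MM)) = U := by
      intro U hUg
      refine le_antisymm ?_ fun v hv => ?_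
      · rintro _ ⟨v, hv, rfl⟩; simpa using hUg g hg v hv
      · exact ⟨((g⁻¹ : GL (Fin n) F) : MM) *ᵥ v, hUg g⁻¹ (H.inv_mem hg) v hv, by simp [Matrix.mulVec_mulVec]⟩
    fin_cases i
    · exact hmap W hW
    · exact hmap W' (hperp_invariant hHU hW)

/-! ### Fields -/

/-- A field of matrices closed under the adjoint has odd degree. -/
theorem field_odd (hF : Fintype.card F = q ^ 2) {N : Subgroup (GL (Fin n) F)} (hN : N ≤ Cfsg.GU n F q)
    {r : ℕ} (hK : IsFieldSubalgebra r (centre N)) (hn : 0 < n) :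
    Odd r ∧ IsAdjointClosedFor ff (centre N) := by
  classical
  refine ⟨?_, fun k hk => ⟨adj hF k, adj_mem_centre hF hN hk, adj_spec hF k⟩⟩
  by_contra hodd
  obtain ⟨r', hr'⟩ := Nat.not_odd_iff_even.mp hodd
  haveI : NeZero n := ⟨by omega⟩
  let K := centre N
  haveI : Nontrivial K := ⟨⟨0, 1, fun e => zero_ne_one (α := MM) (congrArg Subtype.val e)⟩⟩
  have hfield : IsField K := by
    refine ⟨exists_pair_ne K, fun a b => Subtype.ext (hK.comm a a.2 b b.2), fun {a} ha => ?_⟩
    obtain ⟨y, hy, hay⟩ := hK.inv a a.2 fun h => ha (Subtype.ext h)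
    exact ⟨⟨y, hy⟩, Subtype.ext hay⟩
  letI : Field K := hfield.toField
  let τ : K →+* K :=
    { toFun := fun x => ⟨adj hF x, adj_mem_centre hF hN x.2⟩
      map_one' := Subtype.ext (by simp [adj])
      map_mul' := fun x y => Subtype.ext (by
        show adj hF ((x : MM) * (y : MM)) = _
        rw [adj_mul]
        exact hK.comm _ (adj_mem_centre hF hN y.2) _ (adj_mem_centre hF hN x.2))
      map_zero' := Subtype.ext (by simp [adj])
      map_add' := fun x y => Subtype.ext (by ext i j; simp [adj]) }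
  have hττ : ∀ x, τ (τ x) = x := fun x => Subtype.ext (adj_adj hF _)
  have hτs : ∀ (a : F) (x : K), τ (a • x) = conjHom hF a • τ x := fun a x => Subtype.ext (by
    show adj hF (a • (x : MM)) = conjHom hF a • adj hF (x : MM)
    ext i j; simp [adj])
  obtain ⟨s, hs⟩ : ∃ s, conjHom hF s ≠ s := by
    by_contra h
    exact conjHom_ne_id hF (RingHom.ext fun a => not_not.1 fun ha => h ⟨a, ha⟩)
  let K0 : Subfield K := RingHom.eqLocusField τ (RingHom.id K)
  have hK0 : ∀ x, x ∈ K0 ↔ τ x = x := fun x => Iff.rfl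
  have hd : s - conjHom hF s ≠ 0 := sub_ne_zero.mpr hs.symm
  let B : K → K := fun x => (s - conjHom hF s)⁻¹ • (x - τ x)
  have hB : ∀ x, τ (B x) = B x := fun x => by
    simp only [B, hτs, map_sub, hττ, map_inv₀, conjHom_conjHom]
    rw [← neg_sub x (τ x), ← neg_sub s (conjHom hF s), inv_neg, neg_smul, smul_neg, neg_neg]
  have hA : ∀ x, τ (x - s • B x) = x - s • B x := fun x => by
    rw [map_sub, hτs, hB]
    have h1 : x - τ x = (s - conjHom hF s) • B x := by simp only [B, smul_smul, mul_inv_cancel₀ hd, one_smul]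
    rw [sub_smul] at h1
    linear_combination (norm := module) -h1
  let E : K0 × K0 ≃ K :=
    { toFun := fun p => (p.1 : K) + s • (p.2 : K)
      invFun := fun x => (⟨x - s • B x, hA x⟩, ⟨B x, hB x⟩)
      left_inv := fun p => by
        have hb : B ((p.1 : K) + s • (p.2 : K)) = p.2 := by
          have h1 : τ (p.1 : K) = p.1 := p.1.2
          have h2 : τ (p.2 : K) = p.2 := p.2.2
          simp only [B, map_add, hτs, h1, h2]
          rw [add_sub_add_left_eq_sub, ← sub_smul, smul_smul, inv_mul_cancel₀ hd, one_smul]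
        refine Prod.ext (Subtype.ext ?_) (Subtype.ext hb)
        show (p.1 : K) + s • (p.2 : K) - s • B _ = p.1
        rw [hb, add_sub_cancel_right]
      right_inv := fun x => sub_add_cancel _ _ }
  haveI : Finite K := Finite.of_injective _ Subtype.val_injective
  have hcard : Nat.card K0 = q ^ r := by
    have h1 : Nat.card K = q ^ (2 * r) := by
      rw [Module.natCard_eq_pow_finrank (K := F), hK.finrank_eq, Nat.card_eq_fintype_card, hF, ← pow_mul]
    have h2 := Nat.card_congr E
    rw [Nat.card_prod, h1, mul_comm 2 r, pow_mul, sq] at h2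
    exact Nat.mul_self_inj.mp h2
  haveI : Fintype K0 := Fintype.ofFinite _
  have hroot : ∀ x : K, x ^ (q ^ r) = x → x ∈ K0 := by
    intro x hx
    haveI : Fintype K := Fintype.ofFinite _
    by_contra hnot
    have h1 : 1 < q ^ r := by
      rw [← hcard, Nat.card_eq_fintype_card]; exact Fintype.one_lt_card
    let p : Polynomial K := Polynomial.X ^ (q ^ r) - Polynomial.X
    have hp : p ≠ 0 := FiniteField.X_pow_card_sub_X_ne_zero K h1
    have hsub : insert x (Finset.univ.image fun y : K0 => (y : K)) ⊆ p.roots.toFinset := by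
      intro y hy
      rw [Multiset.mem_toFinset, Polynomial.mem_roots hp]
      rcases Finset.mem_insert.mp hy with rfl | hy
      · simp [p, hx]
      · obtain ⟨z, -, rfl⟩ := Finset.mem_image.mp hy
        have hz : z ^ (q ^ r) = z := by rw [← hcard, Nat.card_eq_fintype_card]; exact FiniteField.pow_card z
        have hz' := congrArg (fun w : K0 => (w : K)) hz
        simp only [SubmonoidClass.coe_pow] at hz'
        simp [p, hz']
    have h2 := (Finset.card_le_card hsub).trans ((Multiset.toFinset_card_le _).trans (Polynomial.card_roots' p))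
    rw [FiniteField.X_pow_card_sub_X_natDegree_eq K h1, Finset.card_insert_of_notMem (by
      simp only [Finset.mem_image, Finset.mem_univ, true_and, not_exists]
      exact fun z hz => hnot (hz ▸ z.2)), Finset.card_image_of_injective _ Subtype.val_injective,
      Finset.card_univ, ← Nat.card_eq_fintype_card, hcard] at h2
    omega
  have hsK : (s • (1 : K)) ^ (q ^ r) = s • (1 : K) := by
    rw [smul_pow, one_pow, hr', ← two_mul, pow_mul, ← hF, FiniteField.pow_card_pow]
  have h3 : τ (s • (1 : K)) = s • (1 : K) := hroot _ hsK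
  rw [hτs, map_one] at h3
  exact hs (smul_left_injective F one_ne_zero h3)

end Cfsg.Agent.Lib.UnitMax
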