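import Cfsg.Agent.Lib.UnitMax.Geom
import Cfsg.Agent.Lib.UnitTwoPrime.Tensor
import Cfsg.Agent.Lib.PrimeDim.FormDescent
import Cfsg.Agent.Lib.KnownA.PrimeDim.Core

/-!
Residual step for maximal subgroups of `SU_n(q)`: a core gives a subfield group (three kinds) or the residual class.
-/

set_option autoImplicit false

namespace Cfsg.Agent.Lib.UnitMax

open Matrix Module Cfsg.Geo
open scoped MatrixGroups Matrix
open Cfsg.Agent.Lib
open Cfsg.Agent.Lib.UnitPrimeDim (omegaU)
open Cfsg.Agent.Lib.PrimeDim.FormDescent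

/-- The possible outcomes of the residual step. -/
def FormCases {F : Type*} [Field F] [Fintype F] {n : ℕ} (q : ℕ) (H : Subgroup (GL (Fin n) F)) : Prop :=
  (∃ (F₀ : Subfield F) (r : ℕ) (P : GL (Fin n) F), r.Prime ∧ Odd r ∧ Fintype.card F = Nat.card F₀ ^ r ∧
      IsFormRationalStructure (Cfsg.hermForm n F q) F₀ 1 P ∧ H = subfieldSubgroup F₀ P ⊓ omegaU n F q) ∨
  (∃ (F₀ : Subfield F) (P : GL (Fin n) F) (ζ : F), Fintype.card F = Nat.card F₀ ^ 2 ∧ ζ ≠ 0 ∧ ζ + ζ ^ q = 0 ∧
      IsFormRationalStructure (Cfsg.hermForm n F q) F₀ ζ P ∧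
      (∀ u : Fin n → F, (∀ i, u i ∈ F₀) → Cfsg.hermForm n F q ((P : Matrix (Fin n) (Fin n) F) *ᵥ u)
        ((P : Matrix (Fin n) (Fin n) F) *ᵥ u) = 0) ∧
      H = subfieldSubgroup F₀ P ⊓ omegaU n F q) ∨
  (Odd q ∧ ∃ (F₀ : Subfield F) (P : GL (Fin n) F), Fintype.card F = Nat.card F₀ ^ 2 ∧
      IsFormRationalStructure (Cfsg.hermForm n F q) F₀ 1 P ∧ H = subfieldSubgroup F₀ P ⊓ omegaU n F q) ∨
  InUnitaryResidualClass H

variable {F : Type*} [Field F]

/-- In characteristic two a symmetric matrix fixed by an irreducible set is alternating. -/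
theorem diag_zero_of_symm {ι : Type} [Fintype ι] [DecidableEq ι] [Finite F] (h2 : (2 : F) = 0)
    (hcard : 1 < Fintype.card ι) (S : Set (Matrix ι ι F)) (habs : ActsIrreducibly S) {R : Matrix ι ι F}
    (hsym : Rᵀ = R) (hfix : ∀ s ∈ S, sᵀ * R * s = R) : ∀ i, R i i = 0 := by
  haveI : CharP F 2 := CharTwo.of_one_ne_zero_of_two_eq_zero one_ne_zero h2
  haveI : ExpChar F 2 := ExpChar.prime Nat.prime_two
  haveI : PerfectRing F 2 := PerfectRing.ofFiniteOfIsReduced 2 F
  let r : F → F := fun x => (frobeniusEquiv F 2).symm x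
  have hr : ∀ x, r x ^ 2 = x := fun x => frobeniusEquiv_symm_pow_p F 2 x
  let w : ι → F := fun i => r (R i i)
  suffices hw : w = 0 by
    intro i
    have := congrFun hw i
    rw [← hr (R i i)]
    show (w i) ^ 2 = 0
    rw [this]; simp
  by_contra hw
  have hinv : ∀ s ∈ S, w ᵥ* s = w := by
    intro s hs
    funext i
    have hsq : ∀ x y : F, x ^ 2 = y ^ 2 → x = y := fun x y h => (frobenius_inj F 2) h
    apply hsq
    have e := congrFun (congrFun (hfix s hs) i) i
    show (∑ k, w k * s k i) ^ 2 = (r (R i i)) ^ 2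
    rw [hr, CharTwo.sum_sq]
    rw [← e, mul_assoc, Matrix.mul_apply]
    simp only [Matrix.transpose_apply, Matrix.mul_apply, Finset.mul_sum]
    rw [sum_sym_diag h2 fun k l => by rw [show R l k = R k l by rw [← congrFun (congrFun hsym k) l, Matrix.transpose_apply]]; ring]
    refine Finset.sum_congr rfl fun k _ => ?_
    rw [mul_pow, hr]
    ring
  let W : Submodule F (ι → F) := LinearMap.ker (dotProductBilin F F w)
  have hW : ∀ v, v ∈ W ↔ w ⬝ᵥ v = 0 := fun v => Iff.rfl
  rcases habs W (fun s hs => by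
    rintro _ ⟨v, hv, rfl⟩
    rw [hW, Matrix.toLin'_apply, Matrix.dotProduct_mulVec, hinv s hs]
    exact hv) with h | h
  · have hinj : Function.Injective (dotProductBilin F F w) := LinearMap.ker_eq_bot.1 h
    have := LinearMap.finrank_le_finrank_of_injective hinj
    rw [Module.finrank_fintype_fun_eq_card, Module.finrank_self] at this
    omega
  · apply hw
    funext i
    have := (hW _).1 (h ▸ Submodule.mem_top : (Pi.single i 1 : ι → F) ∈ W)
    simpa using this

variable [Fintype F] {n q : ℕ}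

/-- A subfield of index an odd prime is moved by the involution `x ↦ x ^ q`. -/
theorem exists_moved (hF : Fintype.card F = q ^ 2) {F₁ : Subfield F} {r : ℕ} (hodd : Odd r)
    (hc : Fintype.card F = Nat.card F₁ ^ r) : ∃ a ∈ F₁, a ^ q ≠ a := by
  by_contra hcon
  push Not at hcon
  let F0 : Subfield F := RingHom.eqLocusField (Classical.conjHom hF) (RingHom.id F)
  have hle : F₁ ≤ F0 := fun a ha => by
    show Classical.conjHom hF a = a
    rw [Classical.conjHom_apply]; exact hcon a ha
  letI : Algebra F₁ F0 := (Subfield.inclusion hle).toAlgebra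
  haveI : Module.Finite F₁ F0 := Module.Finite.of_finite
  have h1 : Nat.card F0 = Nat.card F₁ ^ Module.finrank F₁ F0 := Module.natCard_eq_pow_finrank (K := F₁)
  obtain ⟨t, ht⟩ : ∃ t, Classical.conjHom hF t ≠ t := by
    by_contra h
    exact Classical.conjHom_ne_id hF (RingHom.ext fun a => not_not.1 fun ha => h ⟨a, ha⟩)
  let σ := Classical.conjHom hF
  have hd : t - σ t ≠ 0 := sub_ne_zero.mpr ht.symm
  let E : F0 × F0 ≃ F :=
    { toFun := fun p => (p.1 : F) + t * (p.2 : F)
      invFun := fun x => (⟨x - t * ((x - σ x) / (t - σ t)), by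
          show σ _ = _
          have hb : σ ((x - σ x) / (t - σ t)) = (x - σ x) / (t - σ t) := by
            rw [map_div₀, map_sub, map_sub, Classical.conjHom_conjHom, Classical.conjHom_conjHom,
              ← neg_sub x (σ x), ← neg_sub t (σ t), neg_div_neg_eq]
          rw [map_sub, map_mul, hb]
          show _ = x - _
          field_simp
          ring⟩, ⟨(x - σ x) / (t - σ t), by
          show σ _ = _
          rw [map_div₀, map_sub, map_sub, Classical.conjHom_conjHom, Classical.conjHom_conjHom,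
            ← neg_sub x (σ x), ← neg_sub t (σ t), neg_div_neg_eq]
          rfl⟩)
      left_inv := fun p => by
        have h1 : σ (p.1 : F) = p.1 := p.1.2
        have h2 : σ (p.2 : F) = p.2 := p.2.2
        have hb : ((p.1 : F) + t * (p.2 : F) - σ ((p.1 : F) + t * (p.2 : F))) / (t - σ t) = p.2 := by
          rw [map_add, map_mul, h1, h2, div_eq_iff hd]; ring
        refine Prod.ext (Subtype.ext ?_) (Subtype.ext hb)
        show (p.1 : F) + t * (p.2 : F) - t * _ = p.1
        rw [hb]; ring
      right_inv := fun x => sub_add_cancel _ _ }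
  have h2 := Nat.card_congr E
  rw [Nat.card_prod, h1, ← pow_add, Nat.card_eq_fintype_card (α := F), hc] at h2
  have h3 : 1 < Nat.card F₁ := Finite.one_lt_card
  have h4 := Nat.pow_right_injective h3 h2
  obtain ⟨k, hk⟩ := hodd
  omega

/-- An absolutely irreducible group of isometries normalised by `H` and realisable over a proper subfield
gives a subfield group. -/
theorem subfield_cases (hF : Fintype.card F = q ^ 2) (hn : 4 ≤ n) {H P : Subgroup (GL (Fin n) F)}
    (hH : IsMaximalIn (omegaU n F q) H) (hPU : P ≤ Cfsg.GU n F q)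
    (hPn : ∀ h ∈ H, ∀ x ∈ P, h * x * h⁻¹ ∈ P) (habs : ActsAbsolutelyIrreducibly (matrixSet P))
    {F₀ : Subfield F} (h0 : F₀ ≠ ⊤) (hreal : RealisableOver F₀ (matrixSet P)) : FormCases q H := by
  classical
  haveI : Nonempty (Fin n) := ⟨⟨0, by omega⟩⟩
  have hh := UnitTwoPrime.herm_hermForm (n := n) hF
  set σ' : F →+* F := Geometry.frobQ hF with hσ'
  have hσv : ∀ a, σ' a = a ^ q := fun a => Geometry.frobQ_apply hF a
  let σ : F ≃+* F := RingEquiv.ofBijective σ' (Finite.injective_iff_bijective.mp σ'.injective)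
  have hσσ' : ∀ a, σ a = σ' a := fun a => rfl
  set f := Cfsg.hermForm n F q with hfdef
  have hf : IsUnitaryForm σ f :=
    { ne_refl := fun h => by
        obtain ⟨t, ht⟩ := Geometry.exists_pow_ne_self hF
        exact ht (by rw [← hσv, ← hσσ', h]; rfl)
      involutive := hh.invol
      add_left := hh.add_left
      smul_left := hh.smul_left
      herm := hh.herm
      nondegenerate := hh.nondegenerate }
  have hfix : FixesForm (matrixSet P) f := by
    rintro _ ⟨p, hp, rfl⟩ u v
    exact hPU hp u v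
  obtain ⟨F₁, r, h1, hr, hc, B, hB⟩ := exists_prime_index_realisable h0 hreal
  rw [Nat.card_eq_fintype_card] at hc
  have hB' : ∀ p ∈ P, Rat0 F₁ ((B : Matrix (Fin n) (Fin n) F) * (p : Matrix (Fin n) (Fin n) F) *
      ((B⁻¹ : GL (Fin n) F) : Matrix (Fin n) (Fin n) F)) := fun p hp => hB _ ⟨p, hp, rfl⟩
  have hform := form_eq σ' f hh.add_left hh.smul_left hh.add_right hh.smul_right
  have hu := gram_isUnit σ' f hform hh.nondegenerate
  have hσF : ∀ a ∈ F₁, σ' a ∈ F₁ := fun a ha => map_mem F₁ σ' ha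
  obtain ⟨c, hc0, hcr⟩ := exists_smul_gram P σ' hσF habs hB' hu (fixes_gram σ' f hform hfix)
  set b : Matrix (Fin n) (Fin n) F := (B : Matrix (Fin n) (Fin n) F)
  set b' : Matrix (Fin n) (Fin n) F := ((B⁻¹ : GL (Fin n) F) : Matrix (Fin n) (Fin n) F) with hb'
  set G' : Matrix (Fin n) (Fin n) F := b'ᵀ * gramMatrix f * b'.map σ' with hG'
  have hbb : b * b' = 1 := by rw [hb', ← Units.val_mul, mul_inv_cancel, Units.val_one]
  have hb'b : b' * b = 1 := by rw [hb', ← Units.val_mul, inv_mul_cancel, Units.val_one]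
  have hherm : ∀ i j, σ' (G' i j) = G' j i := by
    intro i j
    have e : ∀ i j, G' i j = f (b' *ᵥ Pi.single i 1) (b' *ᵥ Pi.single j 1) := fun i j => by
      rw [gram_congr σ' f hform]
      have e : σ' ∘ (Pi.single j (1 : F) : Fin n → F) = Pi.single j 1 := by
        funext k
        rw [Function.comp_apply]
        rcases eq_or_ne k j with rfl | hk
        · simp
        · simp [Pi.single_eq_of_ne hk]
      rw [e, single_dotProduct, one_mul, Matrix.mulVec_single_one]
      rfl
    rw [e, e, ← hh.herm]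
  have hG'u : IsUnit G' :=
    ((Matrix.isUnit_transpose b').2 (B⁻¹).isUnit |>.mul hu).mul ((RingHom.mapMatrix σ').isUnit_map (B⁻¹).isUnit)
  obtain ⟨i₀, j₀, hij⟩ := exists_ne_entry hG'u
  have hHnorm : ∀ h ∈ H, ∀ x ∈ P, h * x * h⁻¹ ∈ P := hPn
  have heq : ∀ B' : GL (Fin n) F, subfieldSubgroup F₁ B' = subfieldSubgroup F₁ B⁻¹ →
      H = subfieldSubgroup F₁ B' ⊓ omegaU n F q := fun B' hB'' =>
    eq_inf hH (fun h hh => hB'' ▸ mem_subfieldSubgroup_of_normalises P habs hB' (hHnorm h hh))
      (UnitPrimeDim.not_le_subfieldSubgroup hF hn F₁ h1 B')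
  -- a real multiple of `c` gives a structure with constant one
  have hreal1 : ∀ ν ∈ F₁, ν ≠ 0 → σ' (ν * c) = ν * c → ∃ B' : GL (Fin n) F,
      IsFormRationalStructure f F₁ 1 B' ∧ H = subfieldSubgroup F₁ B' ⊓ omegaU n F q := by
    intro ν hνF hν0 hν
    obtain ⟨s, hs0, hs⟩ := exists_norm σ hf.ne_refl hf.involutive (mul_ne_zero hν0 hc0) hν
    obtain ⟨B', hB'e, hB's⟩ := exists_scaled B⁻¹ hs0
    refine ⟨B', fun u v hu hv => ?_, heq B' (hB's F₁)⟩
    rw [one_mul]
    refine rat_value σ' hσF f hform _ (fun i j => ?_) hu hv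
    have hm : (s • b').map σ' = σ' s • b'.map σ' := by ext; simp
    rw [hB'e, ← hb', hm, Matrix.transpose_smul, Matrix.smul_mul, Matrix.smul_mul, Matrix.mul_smul, smul_smul,
      show s * σ' s = ν * c from hs, ← hG', mul_smul]
    exact F₁.mul_mem hνF (hcr i j)
  rcases Nat.Prime.eq_two_or_odd' hr with rfl | hodd
  swap
  · -- odd index
    obtain ⟨a₀, ha₀, hne⟩ := exists_moved hF hodd hc
    set μ : F := σ' c / c with hμ
    have hμF : μ ∈ F₁ := by
      have h1 : σ' (c * G' i₀ j₀) ∈ F₁ := hσF _ (hcr i₀ j₀)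
      rw [map_mul, hherm] at h1
      have h2 : c * G' j₀ i₀ ∈ F₁ := hcr j₀ i₀
      have h3 : G' j₀ i₀ ≠ 0 := fun e => hij (by rw [← hherm, e, map_zero])
      have := F₁.div_mem h1 h2
      rwa [mul_div_mul_right _ _ h3] at this
    have key : ∀ a : F, σ' ((a + σ' a * μ) * c) = (a + σ' a * μ) * c := fun a => by
      have hσc0 : σ' c ≠ 0 := by simpa using hc0
      rw [map_mul, map_add, map_mul, hh.invol, hμ, map_div₀, hh.invol]
      field_simp
      ring
    obtain ⟨a, ha, hne'⟩ : ∃ a ∈ F₁, a + σ' a * μ ≠ 0 := by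
      by_contra hall
      push Not at hall
      have h1 := hall 1 F₁.one_mem
      rw [map_one, one_mul] at h1
      have h2 := hall a₀ ha₀
      exact hne (by rw [← hσv]; linear_combination -h2 + σ' a₀ * h1)
    obtain ⟨B', hB'r, hB'H⟩ := hreal1 _ (F₁.add_mem ha (F₁.mul_mem (hσF a ha) hμF)) hne' (key a)
    exact Or.inl ⟨F₁, r, B', hr, hodd, hc, hB'r, hB'H⟩
  -- index two: the subfield is fixed by the involution
  have hcard : Nat.card F₁ = q := by
    have : Nat.card F₁ ^ 2 = q ^ 2 := by rw [← hc, hF]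
    exact Nat.pow_left_injective two_ne_zero this
  have hfixF : ∀ a ∈ F₁, σ' a = a := fun a ha => by
    rw [hσv, ← hcard]; exact (mem_iff_pow F₁ a).1 ha
  have hC' : ∀ i j, σ' c * G' j i = c * G' i j := fun i j => by
    have := hfixF _ (hcr i j)
    rw [Matrix.smul_apply, smul_eq_mul, map_mul, hherm] at this
    exact this
  have hpm : σ' c = c ∨ σ' c = -c := by
    have e1 := hC' i₀ j₀
    have e2 := hC' j₀ i₀
    have h3 : σ' c ^ 2 = c ^ 2 := by
      refine mul_right_cancel₀ hij ?_
      linear_combination (σ' c) * e2 + c * e1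
    exact sq_eq_sq_iff_eq_or_eq_neg.mp h3
  by_cases hsymp : σ' c = -c ∧ ∀ i, G' i i = 0
  · -- symplectic type
    obtain ⟨hneg, hdiag⟩ := hsymp
    refine Or.inr (Or.inl ⟨F₁, B⁻¹, c, hc, hc0, by rw [← hσv, hneg, add_neg_cancel], ?_, ?_, heq _ rfl⟩)
    · intro u v hu hv
      have e : c * f (b' *ᵥ u) (b' *ᵥ v) = u ⬝ᵥ ((c • G') *ᵥ (σ' ∘ v)) := by
        rw [gram_congr σ' f hform, Matrix.smul_mulVec, dotProduct_smul, smul_eq_mul]
      rw [← hb']
      show c * f _ _ ∈ F₁
      rw [e]
      simp only [dotProduct, Matrix.mulVec, Function.comp_apply]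
      exact F₁.sum_mem fun i _ => F₁.mul_mem (hu i) (F₁.sum_mem fun j _ => F₁.mul_mem (hcr i j) (hσF _ (hv j)))
    · intro u hu
      rw [← hb']
      show f _ _ = 0
      rw [gram_congr σ' f hform, ← hG', show σ' ∘ u = u from funext fun i => hfixF _ (hu i)]
      have hskew : ∀ i j, G' i j = -G' j i := fun i j => by
        have := hC' i j
        rw [hneg] at this
        exact mul_left_cancel₀ hc0 (by linear_combination -this)
      simp only [dotProduct, Matrix.mulVec, Finset.mul_sum]
      rw [← Finset.sum_product']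
      refine Finset.sum_involution (fun x _ => (x.2, x.1)) (fun x _ => ?_) (fun x _ hx h => hx ?_) (fun x _ => by simp)
        (fun x _ => rfl)
      · rw [hskew x.1 x.2]; ring
      · have : x.1 = x.2 := congrArg Prod.snd h
        rw [this, hdiag]; ring
  by_cases h2 : (2 : F) = 0
  · -- characteristic two forces the symplectic type
    exfalso
    have hneg : σ' c = -c := by
      rcases hpm with h | h
      · rw [h]; linear_combination c * h2
      · exact h
    refine hsymp ⟨hneg, fun i => ?_⟩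
    have hsym : G'ᵀ = G' := Matrix.ext fun k l => by
      have := hC' k l
      rw [hneg] at this
      rw [Matrix.transpose_apply]
      exact mul_left_cancel₀ hc0 (by linear_combination this + c * G' l k * h2)
    refine diag_zero_of_symm h2 (by simp; omega) {s | ∃ p ∈ P, s = b * (p : Matrix (Fin n) (Fin n) F) * b'} ?_
      hsym ?_ i
    · intro W hW
      have h' : ∀ s ∈ matrixSet P, (W.map (Matrix.toLin' b')).map (Matrix.toLin' s) ≤ W.map (Matrix.toLin' b') := by
        rintro _ ⟨p, hp, rfl⟩ _ ⟨_, ⟨v, hv, rfl⟩, rfl⟩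
        refine ⟨_, hW _ ⟨p, hp, rfl⟩ ⟨v, hv, rfl⟩, ?_⟩
        simp only [Matrix.toLin'_apply, Matrix.mulVec_mulVec]
        rw [show b' * (b * (p : Matrix (Fin n) (Fin n) F) * b') = (b' * b) * ((p : Matrix (Fin n) (Fin n) F) * b') by
          simp only [mul_assoc], hb'b, one_mul]
      have hinj : Function.Injective (Matrix.toLin' b') := fun x y h => by
        have := congrArg (fun z => b *ᵥ z) h
        simpa [Matrix.toLin'_apply, Matrix.mulVec_mulVec, hbb] using this
      rcases habs.1 _ h' with h | h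
      · left
        exact Submodule.map_injective_of_injective hinj (by rw [h, Submodule.map_bot])
      · right
        refine eq_top_iff.2 fun x _ => ?_
        obtain ⟨v, hv, e⟩ := (h ▸ Submodule.mem_top : Matrix.toLin' b' x ∈ W.map (Matrix.toLin' b'))
        exact hinj e ▸ hv
    · rintro _ ⟨p, hp, rfl⟩
      have hid : (b * (p : Matrix (Fin n) (Fin n) F) * b').map σ' = b * (p : Matrix (Fin n) (Fin n) F) * b' :=
        Matrix.ext fun i j => hfixF _ (hB' p hp i j)
      conv_lhs => arg 2; rw [← hid]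
      simp only [Matrix.transpose_mul, Matrix.map_mul, hG']
      have hb'σ : b'.map σ' * b.map σ' = 1 := by
        rw [← Matrix.map_mul, hb'b, Matrix.map_one _ σ'.map_zero σ'.map_one]
      calc b'ᵀ * ((p : Matrix (Fin n) (Fin n) F)ᵀ * bᵀ) * (b'ᵀ * gramMatrix f * b'.map σ') *
            (b.map σ' * (p : Matrix (Fin n) (Fin n) F).map σ' * b'.map σ')
          = b'ᵀ * ((p : Matrix (Fin n) (Fin n) F)ᵀ * (bᵀ * b'ᵀ) * gramMatrix f * (b'.map σ' * b.map σ') *
              (p : Matrix (Fin n) (Fin n) F).map σ') * b'.map σ' := by simp only [mul_assoc]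
        _ = b'ᵀ * gramMatrix f * b'.map σ' := by
            rw [hb'σ, ← Matrix.transpose_mul, hb'b, Matrix.transpose_one, mul_one, mul_one,
              fixes_gram σ' f hform hfix p hp]
  -- odd characteristic, orthogonal type
  have hσc : σ' c = c := by
    rcases hpm with h | h
    · exact h
    · refine absurd ⟨h, fun i => ?_⟩ hsymp
      have := hC' i i
      rw [h] at this
      have h5 : (2 : F) * (c * G' i i) = 0 := by linear_combination -this
      exact (mul_eq_zero.1 ((mul_eq_zero.1 h5).resolve_left h2)).resolve_left hc0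
  obtain ⟨B', hB'r, hB'H⟩ := hreal1 1 F₁.one_mem one_ne_zero (by rw [one_mul]; exact hσc)
  refine Or.inr (Or.inr (Or.inl ⟨?_, F₁, B', hc, hB'r, hB'H⟩))
  by_contra hev
  rw [Nat.not_odd_iff_even] at hev
  refine h2 ?_
  obtain ⟨p, hp⟩ := CharP.exists F
  haveI := hp
  have hd : p ∣ 2 := by
    obtain ⟨k, hprime, hk⟩ := FiniteField.card F p
    have h2d : 2 ∣ p ^ (k : ℕ) := by rw [← hk, hF]; exact dvd_pow (even_iff_two_dvd.mp hev) two_ne_zero
    exact ((Nat.prime_dvd_prime_iff_eq Nat.prime_two hprime).mp (Nat.prime_two.dvd_of_dvd_pow h2d)).symm ▸ dvd_rfl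
  exact_mod_cast (CharP.cast_eq_zero_iff F p 2).mpr hd

/-- The residual step. -/
theorem forms (hF : Fintype.card F = q ^ 2) (hn : 4 ≤ n) {H P : Subgroup (GL (Fin n) F)}
    (hH : IsMaximalIn (omegaU n F q) H) (hC : KnownA.PrimeDim.Core H P) : FormCases q H := by
  classical
  haveI : Nonempty (Fin n) := ⟨⟨0, by omega⟩⟩
  have hh := UnitTwoPrime.herm_hermForm (n := n) hF
  set σ' : F →+* F := Geometry.frobQ hF with hσ'
  have hσv : ∀ a, σ' a = a ^ q := fun a => Geometry.frobQ_apply hF a
  let σ : F ≃+* F := RingEquiv.ofBijective σ' (Finite.injective_iff_bijective.mp σ'.injective)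
  have hσσ' : ∀ a, σ a = σ' a := fun a => rfl
  set f := Cfsg.hermForm n F q with hfdef
  have hf : IsUnitaryForm σ f :=
    { ne_refl := fun h => by
        obtain ⟨t, ht⟩ := Geometry.exists_pow_ne_self hF
        exact ht (by rw [← hσv, ← hσσ', h]; rfl)
      involutive := hh.invol
      add_left := hh.add_left
      smul_left := hh.smul_left
      herm := hh.herm
      nondegenerate := hh.nondegenerate }
  have hfix : FixesForm (matrixSet P) f := by
    rintro _ ⟨p, hp, rfl⟩ u v
    exact (hH.1.le (hC.le hp)).1 u v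
  by_cases hsub : ∃ F₀ : Subfield F, F₀ ≠ ⊤ ∧ RealisableOver F₀ (matrixSet P)
  · obtain ⟨F₀, h0, hreal⟩ := hsub
    exact subfield_cases hF hn hH (hC.le.trans (hH.1.le.trans inf_le_left)) hC.normal hC.absIrred h0 hreal
  simp only [not_exists, not_and] at hsub
  have hno : ∀ g : (Fin n → F) → (Fin n → F) → F, IsBilinearForm g → IsNondegenerateForm g →
      ¬ FixesForm (matrixSet P) g := by
    intro g hg hnd hgfix
    have hgform := form_eq (RingHom.id F) g hg.add_left hg.smul_left hg.add_right hg.smul_right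
    obtain ⟨F₀, h0, -, hreal⟩ := realisable_of_two_forms hf (gram_isUnit _ g hgform hnd) hC.absIrred hfix
      fun p hp => by simpa using fixes_gram _ g hgform hgfix p hp
    exact hsub F₀ h0 hreal
  refine Or.inr (Or.inr (Or.inr ⟨P, hC.residual fun F₀ h0 h => hsub F₀ h0 h, ?_, ?_⟩))
  · rintro ⟨Q, hQ, hQfix⟩
    exact hno _ hQ.polar_bilinear hQ.nondegenerate fun s hs u v => by
      simp only [QuadraticMap.polar, ← Matrix.mulVec_add, hQfix s hs]
  · rintro ⟨g, hg, hgfix⟩
    exact hno g hg.bilinear hg.nondegenerate hgfix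

end Cfsg.Agent.Lib.UnitMax
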